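import Groth.Agent.H06Unram.ConormalInj
import Groth.Agent.H17.Conormal.DiffSeq
import Groth.Agent.H29Omega.UnivThickStalk
import Groth.Agent.H17.PrinOmega
import Groth.Agent.H17.LocusBC
import Groth.Agent.H29Ref.DualStalk
import Groth.Agent.H8Props.FinLocFree.Global
import Groth.Agent.H02CA.SurfStab.Dual
import Groth.Agent.H06Mod.StalkExact
import Groth.Prelude.Def_RefFun

/-!
# Splitting of the conormal map at smooth points; transposes on stalks
-/

set_option autoImplicit false
set_option linter.style.haveILetI false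
set_option backward.isDefEq.respectTransparency false
universe u

open CategoryTheory CategoryTheory.Limits AlgebraicGeometry TopologicalSpace TensorProduct

namespace Groth.Agent.H29Normal

open Groth.Agent.H06Mod Groth.Agent.H29Omega

attribute [local instance] Groth.Agent.H06Mod.stalkAlgebra

variable {X P Y : Scheme.{u}}

/-- At a smooth point the differential splits off the conormal stalk. -/
theorem exists_retraction_conormalDiff (j : X ⟶ P) [IsImmersion j] [QuasiCompact j] (f : P ⟶ Y)
    {Ω : P.Modules} {d : OmegaSh.Der f Ω} (hd : OmegaSh.IsUniversal d)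
    {φ : Omega.conormal j ⟶ (Scheme.Modules.pullback j).obj Ω} (hφ : OmegaSh.IsConormalDiff j d φ) (x : X)
    (hx : ((j ≫ f).stalkMap x).hom.FormallySmooth) :
    ∃ r : ((Scheme.Modules.pullback j).obj Ω).presheaf.stalk x →ₗ[X.presheaf.stalk x]
        (Omega.conormal j).presheaf.stalk x, ∀ v, r (stalkLin φ x v) = v := by
  obtain ⟨e, he⟩ := exists_pullEquiv d hd j x
  letI : Algebra (Y.presheaf.stalk (f.base (j.base x))) (X.presheaf.stalk x) :=
    ((j ≫ f).stalkMap x).hom.toAlgebra
  haveI : IsScalarTower (Y.presheaf.stalk (f.base (j.base x))) (P.presheaf.stalk (j.base x))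
      (X.presheaf.stalk x) := .of_algebraMap_eq fun r =>
    congr($(congrArg CommRingCat.Hom.hom (Scheme.Hom.stalkMap_comp j f x)) r)
  haveI : Algebra.FormallySmooth (Y.presheaf.stalk (f.base (j.base x))) (X.presheaf.stalk x) := hx
  have hs := j.stalkMap_surjective x
  let K := Ω[X.presheaf.stalk x⁄Y.presheaf.stalk (f.base (j.base x))]
  let m := KaehlerDifferential.mapBaseChange (Y.presheaf.stalk (f.base (j.base x))) (P.presheaf.stalk (j.base x))
      (X.presheaf.stalk x)
  let L := e.toLinearMap.comp (stalkLin φ x)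
  have hinj : Function.Injective L := by
    rw [injective_iff_map_eq_zero]
    intro v hv
    obtain ⟨a, rfl⟩ := H17.Conormal.exists_cgen_eq j x v
    change e (stalkLin φ x (cgen j x a)) = 0 at hv
    rw [stalkLin_conormalDiff hφ x he a] at hv
    have ha := H06Unram.ConormalInj.mem_sq_of_tmul_D_eq_zero (R := Y.presheaf.stalk (f.base (j.base x))) hs a.2 hv
    have hspan : ∀ (b : P.presheaf.stalk (j.base x)) (hb : b ∈ RingHom.ker (j.stalkMap x).hom ^ 2),
        cgen j x ⟨b, Ideal.pow_le_self two_ne_zero hb⟩ = 0 := by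
      intro b hb
      rw [sq] at hb
      induction hb using Submodule.mul_induction_on' with
      | mem_mul_mem p hp q hq =>
        rw [show (⟨p * q, _⟩ : RingHom.ker (j.stalkMap x).hom) = p • ⟨q, hq⟩ from rfl, cgen_smul,
          RingHom.mem_ker.1 hp, zero_smul]
      | add p hp q hq h1 h2 =>
        have e1 : (⟨p + q, _⟩ : RingHom.ker (j.stalkMap x).hom) =
            ⟨p, Ideal.pow_le_self two_ne_zero (by rw [sq]; exact hp)⟩ +
              ⟨q, Ideal.pow_le_self two_ne_zero (by rw [sq]; exact hq)⟩ := rfl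
        rw [e1, map_add]
        exact (congrArg₂ (· + ·) (h1 (by rw [sq]; exact hp)) (h2 (by rw [sq]; exact hq))).trans (add_zero _)
    exact hspan a.1 ha
  have hex : Function.Exact L m := by
    intro w
    constructor
    · intro hw
      obtain ⟨c, hc⟩ := (KaehlerDifferential.exact_kerCotangentToTensor_mapBaseChange
          (Y.presheaf.stalk (f.base (j.base x))) (P.presheaf.stalk (j.base x)) (X.presheaf.stalk x) hs w).1 hw
      obtain ⟨a, rfl⟩ := Ideal.toCotangent_surjective _ c
      rw [KaehlerDifferential.kerCotangentToTensor_toCotangent] at hc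
      refine ⟨cgen j x ⟨a.1, a.2⟩, ?_⟩
      show e (stalkLin φ x (cgen j x _)) = w
      rw [stalkLin_conormalDiff hφ x he]
      exact hc
    · rintro ⟨v, rfl⟩
      obtain ⟨a, rfl⟩ := H17.Conormal.exists_cgen_eq j x v
      show m (e (stalkLin φ x (cgen j x a))) = 0
      rw [stalkLin_conormalDiff hφ x he a]
      exact (KaehlerDifferential.exact_kerCotangentToTensor_mapBaseChange
          (Y.presheaf.stalk (f.base (j.base x))) (P.presheaf.stalk (j.base x)) (X.presheaf.stalk x) hs _).2
        ⟨Ideal.toCotangent _ ⟨a.1, a.2⟩, KaehlerDifferential.kerCotangentToTensor_toCotangent _ _ _ _⟩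
  have hsurj : Function.Surjective m :=
    KaehlerDifferential.mapBaseChange_surjective (Y.presheaf.stalk (f.base (j.base x)))
      (P.presheaf.stalk (j.base x)) (X.presheaf.stalk x) hs
  haveI : Module.Projective (X.presheaf.stalk x) K := inferInstance
  obtain ⟨s, hs'⟩ := Module.projective_lifting_property m LinearMap.id hsurj
  have h01 : (Function.Injective L ∧ ∃ l, m ∘ₗ l = LinearMap.id) ↔
      (Function.Surjective m ∧ ∃ l, l ∘ₗ L = LinearMap.id) := hex.split_tfae'.out 0 1
  obtain ⟨-, r, hr⟩ := h01.1 ⟨hinj, s, hs'⟩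
  exact ⟨r.comp e.toLinearMap, fun v => LinearMap.congr_fun hr v⟩

/-- A split monomorphism of stalks transposes to a surjection of stalks of duals. -/
theorem surjective_stalk_dualMap {A B : X.Modules} (hA : CohB1.IsFP A) (hB : CohB1.IsFP B) (ψ : A ⟶ B) (x : X)
    (h : ∃ r : B.presheaf.stalk x →ₗ[X.presheaf.stalk x] A.presheaf.stalk x, ∀ v, r (stalkLin ψ x v) = v) :
    Function.Surjective (stalkLin (RefFun.dualMap ψ) x) := by
  obtain ⟨r, hr⟩ := h
  intro θ
  refine ⟨(H29Ref.dualEquiv B hB x).symm ((H29Ref.dualEquiv A hA x θ).comp r), (H29Ref.dualEquiv A hA x).injective ?_⟩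
  refine LinearMap.ext fun v => ?_
  have key : ∀ η : (RefHull.dual B).presheaf.stalk x,
      H29Ref.dualEquiv A hA x (stalkLin (RefFun.dualMap ψ) x η) v =
        H29Ref.dualEquiv B hB x η (stalkLin ψ x v) := by
    intro η
    obtain ⟨U, hU, g, rfl⟩ := TopCat.Presheaf.exists_germ_eq (RefHull.dual B).presheaf η
    rw [stalkLin_germ, H29Ref.dualEquiv_apply, H29Ref.dualEquiv_apply, RefHull.evalStalk_germ,
      RefHull.evalStalk_germ]
    rfl
  rw [key, LinearEquiv.apply_symm_apply, LinearMap.comp_apply, hr]

end Groth.Agent.H29Normal
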